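import Cfsg.Agent.Lib.C6W.Hom

/-! The kernel of the action of `C_M(t)` on the odd vectors. -/

set_option autoImplicit false

namespace Cfsg.Lib.C6W

open scoped MatrixGroups
open Subgroup Matrix MulAction Cfsg.Geo Cfsg.Lib.C6 Cfsg.Lib.C6E
open Cfsg.Lib.Asch hiding tr
open Cfsg.Lib.Linear (mem_specialLinear)

variable {F : Type*} [Field F] {ζ γ : F}

local notation "G11" => GL (Fin 11) F
local notation "M11" => Matrix (Fin 11) (Fin 11) F

variable {x y u w h t : GL (Fin 11) F} {M : Subgroup (GL (Fin 11) F)} (D : Ov ζ γ x y u w h t M)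
  {α : Ct M t →* GL (Fin 5) F} {β : Ct M t →* GL (Fin 6) F} (S : Sp M t α β) [Fintype F] (c2 : (2 : F) ≠ 0) (N : NT M)
include D S c2 N

/-- For `i = o5 a`: `k i i - k i (-i) = 1` (`S.ha`) and `k i i * k i (-i) = 0` (`blk`); use `D.sy` for `i = -o5 a`. -/
theorem blk_ker {k : Ct M t} (e : α k = 1) (c : k.1 * u = u * k.1) {i : Fin 11} (i0 : i ≠ 0) :
    (k.1.1 i i = 1 ∧ k.1.1 i (rn i) = 0) ∨ (k.1.1 i i = 0 ∧ k.1.1 i (rn i) = -1) := by
  have sy := D.sy (Ct.comm k)
  have h1 := blk D N c2 k.2.1 c (Ct.comm k) i0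
  have h2 : k.1.1 i i - k.1.1 i (rn i) = 1 := by
    obtain ⟨a, rfl | rfl⟩ := (by decide : ∀ i : Fin 11, i ≠ 0 → ∃ a, i = o5 a ∨ i = rn (o5 a)) i i0
    · rw [← S.ha, e]; simp
    · rw [sy, sy, ← S.ha, e]; simp
  grind

/-- `blk_ker`, `D.zu`, `D.sy`: every block of `k` is `1` or minus the swap. -/
theorem sq_ker {k : Ct M t} (e : α k = 1) (c : k.1 * u = u * k.1) :
    (k.1 * k.1).1 = 1 + single 0 0 (k.1.1 0 0 * k.1.1 0 0 - 1) := by
  have sy := D.sy (Ct.comm k)
  ext i j
  rw [Units.val_mul, mul_apply, Matrix.add_apply]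
  by_cases i0 : i = 0
  · subst i0
    rw [Finset.sum_eq_single 0 (fun l _ hl => by rw [D.zu c hl hl, zero_mul]) (by simp)]
    by_cases j0 : j = 0
    · subst j0; simp
    · simp [D.zu c j0 j0, Ne.symm j0]
  have ir : i ≠ rn i := by clear * - i0; revert i; decide
  rw [Fintype.sum_eq_add i (rn i) ir fun l hl => by rw [D.zu c hl.1 hl.2, zero_mul],
    single_apply_of_row_ne (Ne.symm i0), add_zero, one_apply]
  have h1 := blk_ker D S c2 N e c i0
  have h2 := sy i i
  have h3 := sy i (rn i)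
  have h4 := D.zu c (i := i) (j := j)
  have h5 := D.zu c (i := rn i) (j := j)
  rw [rr] at h3 h5
  grind

/-- Otherwise take a Sylow `11`-subgroup `P` of `Ct M t` containing `u`; `P ⊓ ker α` is a Sylow subgroup of the normal
subgroup `ker α`, so non-trivial, and normalised by `u`: `PGroup.inf_centralizer_ne_bot` gives `k ≠ 1` in `ker α`
commuting with `u`, `k ^ 11 ^ n = 1`.  By `sq_ker`, `k² = diag (η, 1, …, 1)` with `η ^ 11 ^ n = 1`, so `η = 1` (`hom`),
`k² = 1`, `k = 1`. -/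
theorem ker_cop (hd : (10 : F) ≠ 0) : ¬ 11 ∣ Nat.card α.ker := fun h11 => by
  haveI := Fact.mk Nat.prime_eleven
  let u' : Ct M t := ⟨u, D.cu⟩
  have pg : ∀ a : Ct M t, a ^ 11 = 1 → IsPGroup 11 (zpowers a) := fun a e =>
    IsPGroup.iff_card.2 (by
      rw [Nat.card_zpowers]
      exact ((Nat.dvd_prime_pow Nat.prime_eleven).1 (orderOf_dvd_of_pow_eq_one (n := 11 ^ 1) e)).imp fun _ h => h.2)
  have pu := pg u' (Subtype.ext D.u11)
  obtain ⟨P, hP⟩ := pu.exists_le_sylow
  obtain ⟨⟨c, hc⟩, o⟩ := exists_prime_orderOf_dvd_card' 11 h11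
  rw [← orderOf_coe] at o
  obtain ⟨Q, hQ⟩ := (pg c (orderOf_dvd_iff_pow_eq_one.1 o.dvd)).exists_le_sylow
  obtain ⟨g, rfl⟩ := exists_smul_eq (Ct M t) Q P
  obtain ⟨⟨k, ⟨k1, k2⟩, k3⟩, k4⟩ := ne_bot_iff_exists_ne_one.1 (PGroup.inf_centralizer_ne_bot
    (N := (g • Q : Sylow 11 (Ct M t)) ⊓ α.ker) ((g • Q).2.to_le inf_le_left) pu
    ((le_inf (hP.trans le_normalizer) (le_top.trans (normalizer_eq_top _).ge)).trans
      inf_normalizer_le_normalizer_inf) (ne_bot_iff_exists_ne_one.2 ⟨⟨g * c * g⁻¹,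
        smul_mem_pointwise_smul _ (MulAut.conj g) _ (hQ (mem_zpowers c)), α.normal_ker.conj_mem c hc g⟩, fun e => by
      have : c = 1 := by simpa using congrArg Subtype.val e
      simp [this] at o⟩))
  have cu : k.1 * u = u * k.1 := (congrArg Subtype.val (k3 u' (mem_zpowers _))).symm
  obtain ⟨n, hn⟩ := (g • Q).2 ⟨k, k1⟩
  replace hn : k.1 ^ 11 ^ n = 1 := congrArg (·.1.1) hn
  have e1 := sq_ker D S c2 N k2 cu
  have e2 := hom D N hd (mul_mem k.2.1 k.2.1) e1 (n := n) (by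
    have k5 : ∀ m, ((k.1 * k.1) ^ m).1 = 1 + single 0 0 ((k.1.1 0 0 * k.1.1 0 0) ^ m - 1) := fun m => by
      induction m with
      | zero => simp
      | succ m ih =>
        rw [pow_succ, Units.val_mul, ih, e1, mul_add, add_mul, add_mul, single_mul_single_same, add_assoc]
        simp only [mul_one, one_mul, ← single_add]
        congr 2; ring
    have := congrFun (congrFun (k5 (11 ^ n)) 0) 0
    rw [← sq, pow_right_comm, hn] at this
    simpa [sub_eq_zero] using this.symm)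
  rw [e2, sub_self, single_zero, add_zero] at e1
  exact k4 (Subtype.ext (Subtype.ext ((pow_eq_one_iff_of_coprime (m := 2) (n := 11 ^ n)
    (Nat.Coprime.pow_right _ (by norm_num))).1 ⟨(sq _).trans (Units.ext e1), hn⟩)))

/-- `K = α.ker.map β` is normalised by `β.range`, so `Irr (normalizer K)` (`irr_of_diag`, `b_u`, `b_w`, `Irr.mono`);
`v = smulGL ζ _ (β u)` has the eigenvalues `ζ ^ (1 + i²) ≠ 1` (`-1` is not a square modulo `11`), `v ^ 11 = 1`,
`mem_normalizer_of_smul`.  `hh`: `β k` commutes with `β u` for all `k ∈ ker α`, so `k u = u k` (`eq_one` for the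
commutator) and `β k = λ • 1` (`sc_of_diag` with `w k w⁻¹ ∈ ker α`).  `λ = (β k) 1 1 = k 1 1 + k 1 (-1) = ±1` by
`blk_ker`; `eq_one` for `k` or `k t` (`a_t`, `b_t`). -/
theorem ker (hd : (10 : F) ≠ 0) : KER α := fun k hk => by
  let u' : Ct M t := ⟨u, D.cu⟩
  let w' : Ct M t := ⟨w, D.cw⟩
  have bu := D.b_u S
  have z0 := D.prim.ne_zero (by norm_num)
  have inj : Function.Injective fun a => ζ ^ ((o6 a).1 * (o6 a).1) := fun a b e =>
    by_contra fun n => z_ne D.prim (by clear e; revert a b; decide) e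
  have nm : ∀ g, β g ∈ normalizer (α.ker.map β : Set (GL (Fin 6) F)) := fun g => mem_normalizer (by
    rintro _ ⟨s, hs, rfl⟩
    exact ⟨_, α.normal_ker.conj_mem s hs g, by simp⟩)
  have k1 := hh c2 (el_ne D.prim) ((irr_of_diag bu inj (D.b_w S c2)).mono ((closure_le _).2 (by
      rintro _ (rfl | rfl) <;> exact nm _))) (v := smulGL ζ z0 (β u')) (mem_normalizer_of_smul (nm u') rfl)
    (Units.ext (by
      rw [Units.val_pow_eq_pow_val, smulGL_coe, _root_.smul_pow, D.prim.pow_eq_one, one_smul,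
        ← Units.val_pow_eq_pow_val, ← map_pow, show u' ^ 11 = 1 from Subtype.ext D.u11, map_one]))
    (fun x e => funext fun a => by
      have := congrFun e a
      rw [smulGL_coe, bu, smul_mulVec, Pi.smul_apply, mulVec_diagonal, smul_eq_mul, ← mul_assoc, ← pow_succ'] at this
      exact (mul_left_eq_self₀.1 this).resolve_left (by
        simpa using z_ne D.prim (n := 0) ((by decide : ∀ a, ((o6 a).1 * (o6 a).1 + 1) % 11 ≠ 0 % 11) a)))
    fun e => ker_cop D S c2 N hd (e.trans (card_map_dvd _ _))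
  have k2 : ∀ k ∈ α.ker, β k * β u' = β u' * β k := fun k hk => Units.ext (smul_right_injective _ z0 (by
    simpa using congrArg Units.val (k1 _ (mem_map_of_mem β hk))))
  have k3 : k * u' = u' * k := by
    rw [← mul_inv_eq_one]
    exact D.eq_one S c2 (by simp [hk]) (by rw [map_mul, map_inv, map_mul, k2 k hk, map_mul, mul_inv_cancel])
  obtain ⟨c, hc⟩ := sc_of_diag bu inj (D.b_w S c2) (k2 k hk) (by
    simpa using k2 _ (α.normal_ker.conj_mem k hk w'))
  have k4 := S.hb k 1 1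
  rw [hc, if_neg (by decide), show o6 1 = 1 from rfl] at k4
  rcases blk_ker D S c2 N hk (congrArg Subtype.val k3) (i := 1) (by decide) with ⟨e1, e2⟩ | ⟨e1, e2⟩
  · exact .inl (congrArg Subtype.val (D.eq_one S c2 hk (Units.ext (by
      rw [hc, show c = 1 by simpa [e1, e2] using k4, one_smul]; rfl))))
  · refine .inr ((eq_inv_of_mul_eq_one_left (congrArg Subtype.val (D.eq_one S c2 (k := k * ⟨t, D.ct⟩)
      (by rw [map_mul, hk, D.a_t S, one_mul]) (Units.ext ?_)))).trans D.ti)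
    rw [map_mul, D.b_t S, Units.val_mul, hc, show c = -1 by simpa [e1, e2] using k4]
    simp

end Cfsg.Lib.C6W
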